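import Cfsg.Agent.Lib.Lead.PF.Conj
import Cfsg.Agent.Lib.Lead.PL.OutTwo

/-!
# Permutation groups given by maps of points: the certificate for the outer automorphism group

The same as `PL.OutTwo`, for permutations given by maps of points (lookups in tables); all the heavy checks have the form
`∀ q < n, F q = true` and can be verified in slices.  The exponents of the automorphisms induced on `⟨x⟩` by its normaliser
form a subgroup of index at most two of the exponents prime to `p` (represented by `1` and `r₁`): if `r₁ = 1` every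
automorphism can be normalised to fix `x` and `y` and the outer automorphism group is trivial; otherwise it has order two
as soon as some automorphism is not inner.
-/

set_option autoImplicit false

namespace Cfsg.Agent.PF

open Cfsg
open Cfsg.Agent.PL (Acts evalG evalF map_evalG acts_evalG killedBy mem_zpowers_of_cent zpowers_coe)
open Cfsg.Agent.PG (fixer fixer_nil)

/-! ### checks in slices -/

/-- the check of `f` at the points `lo, …, lo + len - 1` -/
def allR (lo len : ℕ) (f : ℕ → Bool) : Bool := Nat.rec true (fun i ih => cond (f (Nat.add lo i)) ih false) len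

theorem allR_succ (lo len : ℕ) (f : ℕ → Bool) : allR lo (len + 1) f = cond (f (lo + len)) (allR lo len f) false := rfl

theorem allR_iff {lo len : ℕ} {f : ℕ → Bool} : allR lo len f = true ↔ ∀ i, lo ≤ i → i < lo + len → f i = true := by
  induction len with
  | zero => exact ⟨fun _ i h1 h2 => absurd h2 (by omega), fun _ => rfl⟩
  | succ k ih =>
    rw [allR_succ]
    constructor
    · intro h i h1 h2
      cases hk : f (lo + k) with
      | false => rw [hk] at h; exact absurd h (by simp)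
      | true =>
        rw [hk, cond_true] at h
        by_cases hik : i = lo + k
        · rw [hik]; exact hk
        · exact ih.1 h i h1 (by omega)
    · intro h
      rw [h (lo + k) (by omega) (by omega), cond_true]
      exact ih.2 fun i h1 h2 => h i h1 (by omega)

/-- the slices cover the points below `n` -/
def coverOK (n : ℕ) : ℕ → List (ℕ × ℕ) → Bool
  | lo, [] => Nat.ble n lo
  | lo, c :: cs => Nat.beq c.1 lo && coverOK n (lo + c.2) cs

theorem forall_of_chunks {n : ℕ} {f : ℕ → Bool} : ∀ (chunks : List (ℕ × ℕ)) (lo : ℕ), coverOK n lo chunks = true →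
    (∀ c ∈ chunks, allR c.1 c.2 f = true) → ∀ q, lo ≤ q → q < n → f q = true
  | [], lo, hcov, _, q, h1, h2 => by
    rw [coverOK] at hcov
    have : n ≤ lo := Nat.le_of_ble_eq_true hcov
    omega
  | c :: cs, lo, hcov, h, q, h1, h2 => by
    rw [coverOK, Bool.and_eq_true] at hcov
    have hc : c.1 = lo := Nat.eq_of_beq_eq_true hcov.1
    by_cases hq : q < lo + c.2
    · have := allR_iff.1 (h c List.mem_cons_self) q (by omega) (by omega)
      exact this
    · exact forall_of_chunks cs (lo + c.2) hcov.2 (fun c' hc' => h c' (List.mem_cons_of_mem _ hc')) q (by omega) h2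

/-- **A check that holds on slices covering the points holds at all points.** -/
theorem forall_lt_of_chunks {n : ℕ} {f : ℕ → Bool} (chunks : List (ℕ × ℕ)) (hcov : coverOK n 0 chunks = true)
    (h : ∀ c ∈ chunks, allR c.1 c.2 f = true) : ∀ q < n, f q = true :=
  fun q hq => forall_of_chunks chunks 0 hcov h q (Nat.zero_le q) hq

theorem of_allR {n : ℕ} {f g : ℕ → ℕ} (h : allR 0 n (fun q => Nat.beq (f q) (g q)) = true) : ∀ q < n, f q = g q :=
  fun q hq => Nat.eq_of_beq_eq_true (allR_iff.1 h q (Nat.zero_le q) (by omega))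

/-! ### maps of elements -/

variable {n : ℕ}

theorem Acts.congr {g : Equiv.Perm (Fin n)} {f f' : ℕ → ℕ} (h : Acts g f) (e : ∀ q < n, f' q = f q) : Acts g f' :=
  fun q hq => (h q hq).trans (e q hq).symm

/-- the map of the inverse -/
theorem acts_inv {g : Equiv.Perm (Fin n)} {f f' : ℕ → ℕ} (h : Acts g f) (e : ∀ q < n, f' (f q) = q) : Acts g⁻¹ f' := by
  intro q hq
  have h1 := h _ (g⁻¹ ⟨q, hq⟩).2
  have h2 : g (g⁻¹ ⟨q, hq⟩) = ⟨q, hq⟩ := Equiv.apply_symm_apply g _
  rw [h2] at h1
  have h3 := e _ (g⁻¹ ⟨q, hq⟩).2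
  rw [← h1] at h3
  exact h3.symm

theorem Rep.congr {H : Subgroup (Equiv.Perm (Fin n))} {f f' : ℕ → ℕ} (h : Rep H f) (e : ∀ q < n, f' q = f q) :
    Rep H f' := by
  obtain ⟨g, hg, ha⟩ := h
  exact ⟨g, hg, Acts.congr ha e⟩

theorem Rep.mono {H K : Subgroup (Equiv.Perm (Fin n))} (hHK : H ≤ K) {f : ℕ → ℕ} (h : Rep H f) : Rep K f := by
  obtain ⟨g, hg, ha⟩ := h
  exact ⟨g, hHK hg, ha⟩

/-- the composition of a list of maps, the last one first -/
def wordF : List (ℕ → ℕ) → ℕ → ℕ
  | [], q => q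
  | f :: l, q => f (wordF l q)

/-- all the maps of a list are actions of elements of `H` -/
def Reps (H : Subgroup (Equiv.Perm (Fin n))) (l : List (ℕ → ℕ)) : Prop := ∀ f ∈ l, Rep H f

theorem Reps.nil (H : Subgroup (Equiv.Perm (Fin n))) : Reps H [] := fun _ h => absurd h List.not_mem_nil

theorem Reps.cons {H : Subgroup (Equiv.Perm (Fin n))} {f : ℕ → ℕ} {l : List (ℕ → ℕ)} (h : Rep H f) (t : Reps H l) :
    Reps H (f :: l) := by
  intro f' hf'
  rcases List.mem_cons.1 hf' with rfl | h'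
  · exact h
  · exact t f' h'

theorem rep_wordF {H : Subgroup (Equiv.Perm (Fin n))} : ∀ {l : List (ℕ → ℕ)}, Reps H l → Rep H (wordF l)
  | [], _ => ⟨1, H.one_mem, fun _ _ => rfl⟩
  | f :: l, h => by
    obtain ⟨g, hg, ha⟩ := h f List.mem_cons_self
    obtain ⟨g', hg', ha'⟩ := rep_wordF (l := l) fun f' hf' => h f' (List.mem_cons_of_mem _ hf')
    exact ⟨g * g', H.mul_mem hg hg', ha.mul ha'⟩

/-- the product of a list of permutations acts by the composition of their maps -/
theorem acts_prod : ∀ (l : List (Equiv.Perm (Fin n) × (ℕ → ℕ))), (∀ e ∈ l, Acts e.1 e.2) →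
    Acts (l.map Prod.fst).prod (wordF (l.map Prod.snd))
  | [], _ => fun _ _ => rfl
  | e :: l, h => by
    rw [List.map_cons, List.prod_cons, List.map_cons]
    exact (h e List.mem_cons_self).mul (acts_prod l fun e' he' => h e' (List.mem_cons_of_mem _ he'))

/-! ### the tests of the candidates -/

/-- the test of a candidate `q` for the image of the first base point under an element of the centraliser of `x`: it
lies in the cycle of `x` through the base point -/
def centP (n fuel : ℕ) (fx : ℕ → ℕ) (tests : List ℕ) (k : ℕ) (L : Level) (Ls : List Level) (q : ℕ) : Bool :=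
  match cand n fuel fx fx tests (L :: Ls) q with
  | none => true
  | some _ => cycMem fx k L.1 q

theorem centP_spec {n fuel : ℕ} {fx : ℕ → ℕ} {tests : List ℕ} {k : ℕ} {L : Level} {Ls : List Level}
    (h : ∀ q < n, centP n fuel fx tests k L Ls q = true) :
    ∀ q < n, (match cand n fuel fx fx tests (L :: Ls) q with
      | none => true
      | some _ => cycMem fx k L.1 q) = true := by
  intro q hq
  have h1 := h q hq
  rw [centP] at h1
  cases hc : cand n fuel fx fx tests (L :: Ls) q with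
  | none => rfl
  | some st =>
    rw [hc] at h1
    exact h1

/-- the test of a candidate `q` for the image of the first base point of the second chain under an element of the
centraliser of `y`: it is the base point itself or the exceptional point `c₀`, or some relation is violated -/
def killF (n fuel : ℕ) (fx fy fv : ℕ → ℕ) (testsB : List ℕ) (L : Level) (Ls : List Level)
    (kills : List (List ℕ × ℕ × ℕ)) (c₀ : ℕ) (q : ℕ) : Bool :=
  match cand n fuel fy fy testsB (L :: Ls) q with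
  | none => true
  | some st => Nat.beq q L.1 || (Nat.beq q c₀ ||
      killedBy n fx fy (fun t => applyAll fuel st (fv t)) kills)

/-! ### the certificate -/

/-- the data and the checks for a permutation group `P`, for the case that the normaliser of `⟨x⟩` induces all the
automorphisms of `⟨x⟩`: a chain `LG :: LsG` of trees with generators in `⟨x, y, w⟩`, a chain `LA :: LsA` along a cycle of
`x` and a chain `LB :: LsB` along a cycle of `y` -/
structure FSetup (n : ℕ) (P : Subgroup (Equiv.Perm (Fin n))) where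
  N : ℕ
  hN : Nat.card P = N
  fuel : ℕ
  p : ℕ
  hp : p.Prime
  hp2 : ¬ p ^ 2 ∣ N
  m : ℕ
  s : ℕ
  r₁ : ℕ
  hR : ∀ k < p, k ≠ 0 → ∃ j : ℕ, ∃ r ∈ ({1, r₁} : Finset ℕ), (k * m ^ j) % p = r % p
  hsolve : ∀ i < p, ∃ a : ℕ, (a + m * i) % p = (m * a) % p
  x : Equiv.Perm (Fin n)
  y : Equiv.Perm (Fin n)
  w : Equiv.Perm (Fin n)
  hx : x ∈ P
  hy : y ∈ P
  hw : w ∈ P
  fx : ℕ → ℕ
  fy : ℕ → ℕ
  fw : ℕ → ℕ
  fv : ℕ → ℕ
  ax : Acts x fx
  ay : Acts y fy
  aw : Acts w fw
  chk_v : ∀ q < n, fv (fw q) = q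
  q₀ : ℕ
  hq₀ : q₀ < n
  chk_x : ∀ q < n, fx^[p] q = q
  chk_x1 : fx q₀ ≠ q₀
  chk_yx : ∀ q < n, fy (fx q) = fx^[m] (fy q)
  chk_wy : ∀ q < n, fw (fy q) = fy^[s] (fw q)
  LG : Level
  LsG : List Level
  hG : ∀ L ∈ LG :: LsG, ∀ c ∈ L.2.1, Rep (Subgroup.closure {x, y, w}) c
  chk_treeG : treeOK n [] (LG :: LsG) = true
  chk_countsG : (treeCounts n fuel (LG :: LsG)).prod = N
  LA : Level
  LsA : List Level
  hA : ∀ L ∈ LA :: LsA, ∀ c ∈ L.2.1, Rep P c
  chk_treeA : treeOK n [] (LA :: LsA) = true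
  chk_countsA : (treeCounts n fuel (LA :: LsA)).prod = N
  chk_cycA : baseCycle fx (LA :: LsA) = true
  tests : List ℕ
  chk_centX : ∀ q < n, centP n fuel fx tests p LA LsA q = true
  LB : Level
  LsB : List Level
  hB : ∀ L ∈ LB :: LsB, ∀ c ∈ L.2.1, Rep P c
  chk_treeB : treeOK n [] (LB :: LsB) = true
  chk_countsB : (treeCounts n fuel (LB :: LsB)).prod = N
  chk_cycB : baseCycle fy (LB :: LsB) = true
  kills : List (List ℕ × ℕ × ℕ)
  chk_rels : ∀ e ∈ kills, ∀ q < n, (evalF fx fy fv e.1)^[e.2.1] q = q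
  testsB : List ℕ

namespace FSetup

variable {P : Subgroup (Equiv.Perm (Fin n))} (S : FSetup n P)

/-- the test of a candidate for the image of the first base point of the second chain under an element of the
centraliser of `y`: it is the base point itself, or some relation is violated -/
def killP (c₀ : ℕ) (q : ℕ) : Bool :=
  killF n S.fuel S.fx S.fy S.fv S.testsB S.LB S.LsB S.kills c₀ q

theorem av : Acts S.w⁻¹ S.fv := acts_inv S.aw S.chk_v

theorem x_pow : S.x ^ S.p = 1 := (S.ax.pow S.p).eq_one S.chk_x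

theorem x_ne : S.x ≠ 1 := S.ax.ne_one S.hq₀ S.chk_x1

theorem orderOf_x : orderOf S.x = S.p := by
  have : Fact S.p.Prime := ⟨S.hp⟩
  exact orderOf_eq_prime S.x_pow S.x_ne

theorem yx : S.y * S.x = S.x ^ S.m * S.y := (S.ay.mul S.ax).eq ((S.ax.pow S.m).mul S.ay) S.chk_yx

theorem wy : S.w * S.y = S.y ^ S.s * S.w := (S.aw.mul S.ay).eq ((S.ay.pow S.s).mul S.aw) S.chk_wy

/-- the subgroup generated by `x`, `y`, `w` -/
def K : Subgroup (Equiv.Perm (Fin n)) := Subgroup.closure {S.x, S.y, S.w}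

theorem K_le : S.K ≤ P := by
  rw [K, Subgroup.closure_le]
  intro g hg
  rcases hg with rfl | rfl | rfl
  · exact S.hx
  · exact S.hy
  · exact S.hw

theorem card_K_ge : S.N ≤ Nat.card S.K := by
  have := tree_sound S.K S.fuel (S.LG :: S.LsG) [] S.chk_treeG S.hG
  rw [fixer_nil, S.chk_countsG] at this
  exact this

theorem K_eq : S.K = P := Subgroup.eq_of_le_of_card_ge S.K_le (by rw [S.hN]; exact S.card_K_ge)

/-- `x` in `P` -/
def xP : ↥P := ⟨S.x, S.hx⟩
/-- `y` in `P` -/
def yP : ↥P := ⟨S.y, S.hy⟩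
/-- `w` in `P` -/
def wP : ↥P := ⟨S.w, S.hw⟩

theorem orderOf_xP : orderOf S.xP = S.p := by
  rw [← S.orderOf_x]
  exact (Subgroup.orderOf_coe S.xP).symm

theorem hCx : ∀ c : ↥P, c * S.xP = S.xP * c → c ∈ Subgroup.zpowers S.xP := by
  intro c hc
  apply zpowers_coe
  obtain ⟨i, -, hi⟩ := mem_powers_of_cand P S.fuel S.x S.hx S.ax S.tests S.LA S.LsA S.chk_treeA S.hA
    (by rw [S.chk_countsA, S.hN]) S.chk_cycA S.p (centP_spec S.chk_centX) c.1 c.2 (congrArg Subtype.val hc)
  rw [hi]
  exact Subgroup.pow_mem _ (Subgroup.mem_zpowers _) i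

theorem hyP : S.yP * S.xP * S.yP⁻¹ = S.xP ^ S.m := by
  apply Subtype.ext
  show S.y * S.x * S.y⁻¹ = S.x ^ S.m
  rw [S.yx, mul_inv_cancel_right]

theorem hwP : S.wP * S.yP * S.wP⁻¹ = S.yP ^ S.s := by
  apply Subtype.ext
  show S.w * S.y * S.w⁻¹ = S.y ^ S.s
  rw [S.wy, mul_inv_cancel_right]

theorem hgenP : Subgroup.closure {S.xP, S.yP, S.wP} = (⊤ : Subgroup ↥P) := by
  apply Subgroup.map_injective P.subtype_injective
  rw [MonoidHom.map_closure, ← MonoidHom.range_eq_map, Subgroup.range_subtype]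
  have : (P.subtype '' {S.xP, S.yP, S.wP} : Set (Equiv.Perm (Fin n))) = {S.x, S.y, S.w} := by
    rw [Set.image_insert_eq, Set.image_insert_eq, Set.image_singleton]
    rfl
  rw [this]
  exact S.K_eq

theorem coe_evalG (a b c : ↥P) (u : List ℕ) : ((evalG a b c u : ↥P) : Equiv.Perm (Fin n)) = evalG a.1 b.1 c.1 u :=
  map_evalG P.subtype a b c u

/-- the relations between `x`, `y`, `w⁻¹`, for their images under an automorphism fixing `x` and `y` -/
theorem rels_image (c : ↥P) (β : MulAut ↥P) (hβx : β S.xP = S.xP) (hβy : β S.yP = S.yP) (hβw : β S.wP = S.wP * c) :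
    ∀ e ∈ S.kills, evalG S.x S.y (c.1⁻¹ * S.w⁻¹) e.1 ^ e.2.1 = 1 := by
  intro e he
  have hrel0 : evalG S.x S.y S.w⁻¹ e.1 ^ e.2.1 = 1 :=
    ((acts_evalG S.ax S.ay S.av e.1).pow e.2.1).eq_one (S.chk_rels e he)
  have h1 : evalG S.xP S.yP S.wP⁻¹ e.1 ^ e.2.1 = 1 := by
    apply Subtype.ext
    rw [Subgroup.coe_pow, coe_evalG]
    exact hrel0
  have h2 := congrArg β h1
  have hm : β (evalG S.xP S.yP S.wP⁻¹ e.1) = evalG (β S.xP) (β S.yP) (β S.wP⁻¹) e.1 :=
    map_evalG β.toMonoidHom _ _ _ _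
  have h5 : β S.wP⁻¹ = c⁻¹ * S.wP⁻¹ := by rw [map_inv, hβw, mul_inv_rev]
  rw [map_pow, map_one, hm, hβx, hβy, h5] at h2
  have h6 := congrArg Subtype.val h2
  rw [Subgroup.coe_pow, coe_evalG] at h6
  exact h6

/-- an element `c` of the centraliser of `y` such that some automorphism fixes `x`, `y` and maps `w` to `w c` maps the
first base point of the second chain to itself or to the exceptional point -/
theorem image_of_aut (c₀ : ℕ) (chk_kill : ∀ q < n, S.killP c₀ q = true) (c : ↥P) (hc : c * S.yP = S.yP * c)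
    (hβ : ∃ β : MulAut ↥P, β S.xP = S.xP ∧ β S.yP = S.yP ∧ β S.wP = S.wP * c) :
    ∃ hb : S.LB.1 < n, ((c.1 ⟨S.LB.1, hb⟩ : Fin n) : ℕ) = S.LB.1 ∨ ((c.1 ⟨S.LB.1, hb⟩ : Fin n) : ℕ) = c₀ := by
  obtain ⟨β, hβx, hβy, hβw⟩ := hβ
  have hrel := S.rels_image c β hβx hβy hβw
  obtain ⟨hb, st, hst, hact⟩ := exists_cand P S.fuel S.y S.y S.ay S.ay S.testsB S.LB S.LsB S.chk_treeB S.hB
    (by rw [S.chk_countsB, S.hN]) S.chk_cycB c.1 c.2 (congrArg Subtype.val hc)
  refine ⟨hb, ?_⟩
  have h1 := chk_kill _ (c.1 ⟨S.LB.1, hb⟩).2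
  rw [killP, killF, hst] at h1
  simp only [Bool.or_eq_true] at h1
  rcases h1 with h1 | h1 | h1
  · exact Or.inl (Nat.eq_of_beq_eq_true h1)
  · exact Or.inr (Nat.eq_of_beq_eq_true h1)
  · exfalso
    rw [killedBy, List.any_eq_true] at h1
    obtain ⟨e, he, hne⟩ := h1
    rw [Bool.and_eq_true] at hne
    obtain ⟨hq, hne⟩ := hne
    have hq : e.2.2 < n := by simpa [Nat.blt] using hq
    have hcv : Acts (c.1⁻¹ * S.w⁻¹) (fun q => applyAll S.fuel st (S.fv q)) := hact.mul S.av
    have hacts := (acts_evalG S.ax S.ay hcv e.1).pow e.2.1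
    refine hacts.ne_one hq ?_ (hrel e he)
    intro heq
    rw [heq, Nat.beq_refl] at hne
    exact absurd hne (by simp)

/-- an element of the centraliser of `y` that fixes the first base point of the second chain is trivial -/
theorem eq_one_of_fix (c : ↥P) (hc : c * S.yP = S.yP * c) (hb : S.LB.1 < n)
    (h : ((c.1 ⟨S.LB.1, hb⟩ : Fin n) : ℕ) = S.LB.1) : c = 1 := by
  apply Subtype.ext
  exact conj_point_inj P S.fuel S.y S.y S.ay S.LB S.LsB S.chk_treeB S.hB (by rw [S.chk_countsB, S.hN]) S.chk_cycB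
    c.1 1 c.2 P.one_mem (congrArg Subtype.val hc) (by rw [one_mul, mul_one]) hb (Fin.ext h)

/-- no candidate other than the identity extends to an automorphism fixing `x` and `y` -/
theorem hkill (chk_kill : ∀ q < n, S.killP S.LB.1 q = true) (c : ↥P) (hc : c * S.yP = S.yP * c)
    (hβ : ∃ β : MulAut ↥P, β S.xP = S.xP ∧ β S.yP = S.yP ∧ β S.wP = S.wP * c) : c = 1 := by
  obtain ⟨hb, h | h⟩ := S.image_of_aut S.LB.1 chk_kill c hc hβ
  · exact S.eq_one_of_fix c hc hb h
  · exact S.eq_one_of_fix c hc hb h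

/-- **Every automorphism of `P` is inner**, if every candidate other than the identity violates a relation and the
normaliser of `⟨x⟩` induces all the automorphisms of `⟨x⟩`. -/
theorem all_inner (h1 : S.r₁ = 1) (chk_kill : ∀ q < n, S.killP S.LB.1 q = true) (α : MulAut ↥P) :
    ∃ g : ↥P, α = MulAut.conj g := by
  classical
  have : Fact S.p.Prime := ⟨S.hp⟩
  have hfin : Fintype ↥P := Fintype.ofFinite _
  have hk : ∀ r ∈ ({1} : Finset ℕ), ∀ c ∈ (Finset.univ.filter fun c : ↥P => c * S.yP = S.yP * c),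
      (∃ β : MulAut ↥P, β S.xP = S.xP ^ r ∧ β S.yP = S.yP ∧ β S.wP = S.wP * c) → S.xP ^ r = S.xP ∧ c = 1 := by
    intro r hr c hc hβ
    rw [Finset.mem_singleton] at hr
    subst hr
    rw [pow_one] at hβ ⊢
    exact ⟨rfl, S.hkill chk_kill c (by simpa using hc) hβ⟩
  refine PChain.all_inner S.p (by rw [S.hN]; exact S.hp2) S.xP S.yP S.wP S.orderOf_xP S.hCx S.m S.hyP {1} ?_ S.hsolve
    (Finset.univ.filter fun c : ↥P => c * S.yP = S.yP * c) (fun c hc => by simpa using hc) S.s S.hwP S.hgenP hk α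
  intro k hk' hk0
  obtain ⟨j, r, hr, hj⟩ := S.hR k hk' hk0
  rw [h1] at hr
  have hr1 : r = 1 := by simpa using hr
  exact ⟨j, 1, Finset.mem_singleton_self 1, by rw [hj, hr1]⟩

/-- **The outer automorphism group of `P` is trivial.** -/
theorem card_out_one (h1 : S.r₁ = 1) (chk_kill : ∀ q < n, S.killP S.LB.1 q = true) : Nat.card (Cfsg.Out ↥P) = 1 :=
  PChain.card_out_eq_one_of_inner (S.all_inner h1 chk_kill)

/-- **The outer automorphism group of `P` has order two**, if some automorphism is not inner. -/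
theorem card_out_two (chk_kill : ∀ q < n, S.killP S.LB.1 q = true) (σ : MulAut ↥P)
    (hσ : ∀ g : ↥P, σ ≠ MulAut.conj g) : Nat.card (Cfsg.Out ↥P) = 2 := by
  have : Fact S.p.Prime := ⟨S.hp⟩
  exact PChain.card_out_eq_two S.p (by rw [S.hN]; exact S.hp2) S.xP S.yP S.wP S.orderOf_xP S.hCx S.m S.hyP S.r₁
    S.hR S.hsolve S.s S.hwP S.hgenP (S.hkill chk_kill) σ hσ

/-- an automorphism that maps `x` to an element with map `fx'` is not inner, if no candidate for an element conjugating
`x` to that element passes the tests -/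
theorem not_inner_of_cand (σ : MulAut ↥P) {fx' : ℕ → ℕ} (hx' : Acts (σ S.xP).1 fx')
    (chk : ∀ q < n, (cand n S.fuel S.fx fx' S.tests (S.LA :: S.LsA) q).isNone = true) (g : ↥P) :
    σ ≠ MulAut.conj g := by
  intro hh
  have h1 : σ S.xP = g * S.xP * g⁻¹ := by rw [hh, MulAut.conj_apply]
  have h2 : g.1 * S.x = (σ S.xP).1 * g.1 := by
    rw [h1]
    show g.1 * S.x = g.1 * S.x * g.1⁻¹ * g.1
    rw [inv_mul_cancel_right]
  exact not_conj_of_cand P S.fuel S.x (σ S.xP).1 S.ax hx' S.tests S.LA S.LsA S.chk_treeA S.hA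
    (by rw [S.chk_countsA, S.hN]) S.chk_cycA chk g.1 g.2 h2

end FSetup

end Cfsg.Agent.PF
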