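import Cfsg.Agent.Lib.Lead.PF.Out

/-!
# The certificate for a trivial outer automorphism group when the normaliser of `⟨x⟩` does not induce all automorphisms

The exponents of the automorphisms induced on `⟨x⟩` by its normaliser form a subgroup of index at most two of the exponents
prime to `p`, represented by `1` and `r₁`.  An automorphism that maps `x` to `x ^ r₁` and fixes `y` maps `w` to `w c` with
`c` in the centraliser of `y`; if every candidate `c` violates a relation, no such automorphism exists, and every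
automorphism is inner.
-/

set_option autoImplicit false

namespace Cfsg.Agent.PF

open Cfsg
open Cfsg.Agent.PL (Acts evalG evalF map_evalG acts_evalG killedBy)

variable {n : ℕ}

/-- the test of a candidate `q` for the image of the first base point of the second chain under an element of the
centraliser of `y`: some relation is violated, with the map `fxr` in the place of `x` -/
def killR (n fuel : ℕ) (fxr fy fv : ℕ → ℕ) (testsB : List ℕ) (L : Level) (Ls : List Level)
    (kills : List (List ℕ × ℕ × ℕ)) (q : ℕ) : Bool :=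
  match cand n fuel fy fy testsB (L :: Ls) q with
  | none => true
  | some st => killedBy n fxr fy (fun t => applyAll fuel st (fv t)) kills

namespace FSetup

variable {P : Subgroup (Equiv.Perm (Fin n))} (S : FSetup n P)

/-- the relations between `x`, `y`, `w⁻¹`, for their images under an automorphism mapping `x` to `x ^ r` and fixing
`y` -/
theorem rels_image_pow (r : ℕ) (c : ↥P) (β : MulAut ↥P) (hβx : β S.xP = S.xP ^ r) (hβy : β S.yP = S.yP)
    (hβw : β S.wP = S.wP * c) : ∀ e ∈ S.kills, evalG (S.x ^ r) S.y (c.1⁻¹ * S.w⁻¹) e.1 ^ e.2.1 = 1 := by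
  intro e he
  have hrel0 : evalG S.x S.y S.w⁻¹ e.1 ^ e.2.1 = 1 :=
    ((acts_evalG S.ax S.ay S.av e.1).pow e.2.1).eq_one (S.chk_rels e he)
  have h1 : evalG S.xP S.yP S.wP⁻¹ e.1 ^ e.2.1 = 1 := by
    apply Subtype.ext
    rw [Subgroup.coe_pow, coe_evalG]
    exact hrel0
  have h2 := congrArg β h1
  have hm : β (evalG S.xP S.yP S.wP⁻¹ e.1) = evalG (β S.xP) (β S.yP) (β S.wP⁻¹) e.1 :=
    map_evalG β.toMonoidHom _ _ _ _
  have h5 : β S.wP⁻¹ = c⁻¹ * S.wP⁻¹ := by rw [map_inv, hβw, mul_inv_rev]
  rw [map_pow, map_one, hm, hβx, hβy, h5] at h2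
  have h6 := congrArg Subtype.val h2
  rw [Subgroup.coe_pow, coe_evalG] at h6
  exact h6

/-- no automorphism maps `x` to `x ^ r` and fixes `y`, if every candidate violates a relation -/
theorem false_of_aut_pow (r : ℕ) (fxr : ℕ → ℕ) (hxr : ∀ q < n, fxr q = S.fx^[r] q)
    (chk : ∀ q < n, killR n S.fuel fxr S.fy S.fv S.testsB S.LB S.LsB S.kills q = true)
    (c : ↥P) (hc : c * S.yP = S.yP * c)
    (hβ : ∃ β : MulAut ↥P, β S.xP = S.xP ^ r ∧ β S.yP = S.yP ∧ β S.wP = S.wP * c) : False := by
  obtain ⟨β, hβx, hβy, hβw⟩ := hβ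
  have hrel := S.rels_image_pow r c β hβx hβy hβw
  obtain ⟨hb, st, hst, hact⟩ := exists_cand P S.fuel S.y S.y S.ay S.ay S.testsB S.LB S.LsB S.chk_treeB S.hB
    (by rw [S.chk_countsB, S.hN]) S.chk_cycB c.1 c.2 (congrArg Subtype.val hc)
  have h1 := chk _ (c.1 ⟨S.LB.1, hb⟩).2
  rw [killR, hst] at h1
  have h1' : killedBy n fxr S.fy (fun t => applyAll S.fuel st (S.fv t)) S.kills = true := h1
  rw [killedBy, List.any_eq_true] at h1'
  clear h1
  rename' h1' => h1
  obtain ⟨e, he, hne⟩ := h1
  rw [Bool.and_eq_true] at hne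
  obtain ⟨hq, hne⟩ := hne
  have hq : e.2.2 < n := by simpa [Nat.blt] using hq
  have hcv : Acts (c.1⁻¹ * S.w⁻¹) (fun q => applyAll S.fuel st (S.fv q)) := hact.mul S.av
  have haxr : Acts (S.x ^ r) fxr := Acts.congr (S.ax.pow r) hxr
  have hacts := (acts_evalG haxr S.ay hcv e.1).pow e.2.1
  refine hacts.ne_one hq ?_ (hrel e he)
  intro heq
  rw [heq, Nat.beq_refl] at hne
  exact absurd hne (by simp)

/-- **Every automorphism of `P` is inner**, if every candidate other than the identity violates a relation and no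
automorphism realises the second class of exponents. -/
theorem all_inner_two (chk_kill : ∀ q < n, S.killP S.LB.1 q = true) (fxr : ℕ → ℕ)
    (hxr : ∀ q < n, fxr q = S.fx^[S.r₁] q)
    (chk_r : ∀ q < n, killR n S.fuel fxr S.fy S.fv S.testsB S.LB S.LsB S.kills q = true) (α : MulAut ↥P) :
    ∃ g : ↥P, α = MulAut.conj g := by
  classical
  have : Fact S.p.Prime := ⟨S.hp⟩
  have hfin : Fintype ↥P := Fintype.ofFinite _
  have hk : ∀ r ∈ ({1, S.r₁} : Finset ℕ), ∀ c ∈ (Finset.univ.filter fun c : ↥P => c * S.yP = S.yP * c),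
      (∃ β : MulAut ↥P, β S.xP = S.xP ^ r ∧ β S.yP = S.yP ∧ β S.wP = S.wP * c) → S.xP ^ r = S.xP ∧ c = 1 := by
    intro r hr c hc hβ
    rw [Finset.mem_insert, Finset.mem_singleton] at hr
    rcases hr with rfl | rfl
    · rw [pow_one] at hβ ⊢
      exact ⟨rfl, S.hkill chk_kill c (by simpa using hc) hβ⟩
    · exact (S.false_of_aut_pow S.r₁ fxr hxr chk_r c (by simpa using hc) hβ).elim
  exact PChain.all_inner S.p (by rw [S.hN]; exact S.hp2) S.xP S.yP S.wP S.orderOf_xP S.hCx S.m S.hyP {1, S.r₁} S.hR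
    S.hsolve (Finset.univ.filter fun c : ↥P => c * S.yP = S.yP * c) (fun c hc => by simpa using hc) S.s S.hwP S.hgenP
    hk α

/-- **The outer automorphism group of `P` is trivial.** -/
theorem card_out_one_two (chk_kill : ∀ q < n, S.killP S.LB.1 q = true) (fxr : ℕ → ℕ)
    (hxr : ∀ q < n, fxr q = S.fx^[S.r₁] q)
    (chk_r : ∀ q < n, killR n S.fuel fxr S.fy S.fv S.testsB S.LB S.LsB S.kills q = true) :
    Nat.card (Cfsg.Out ↥P) = 1 :=
  PChain.card_out_eq_one_of_inner (S.all_inner_two chk_kill fxr hxr chk_r)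

end FSetup

end Cfsg.Agent.PF
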