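import Cfsg.Agent.Lib.Lead.PF.Tree

/-!
# The elements conjugating one permutation to another, point by point (maps of points)

Let `H` have a tight chain of trees whose base points follow a cycle of `x`: `b₀, x b₀, x² b₀, …`.  An element `c` of
`H` with `c x = x' c` is determined by the point `c b₀`, since `c (xⁱ b₀) = x'ⁱ (c b₀)`.  For each candidate `p` for
`c b₀` the sifting of the required images through the chain, using only the trees, gives a list of steps (paths in the
trees) whose composition is `c⁻¹`; so `c⁻¹` can be evaluated at single points.  All the tests have the form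
`∀ p < n, F p = true`, and can be checked in slices.
-/

set_option autoImplicit false

namespace Cfsg.Agent.PF

open Cfsg.Agent.PL (Acts)
open Cfsg.Agent.PG (fixer mem_fixer fixer_nil mem_fixer_cons fixer_mono strict strict_eq)

/-- a step of the sifting: a level together with the point whose path is applied -/
abbrev Step : Type := ℕ × List (ℕ → ℕ) × (ℕ → ℕ) × ℕ

/-- apply the paths of the steps, the first one first -/
def applyAll (fuel : ℕ) : List Step → ℕ → ℕ
  | [], q => q
  | s :: st, q => applyAll fuel st (applyPath s.2.1 s.2.2.1 s.1 fuel s.2.2.2 q)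

theorem applyAll_append (fuel : ℕ) : ∀ (st : List Step) (s : Step) (q : ℕ),
    applyAll fuel (st ++ [s]) q = applyPath s.2.1 s.2.2.1 s.1 fuel s.2.2.2 (applyAll fuel st q)
  | [], _, _ => rfl
  | s' :: st, s, q => by
    rw [List.cons_append, applyAll, applyAll, applyAll_append fuel st s]

/-- the base points follow a cycle of the permutation with map `fx` -/
def baseCycle (fx : ℕ → ℕ) : List Level → Bool
  | L :: L' :: Ls => Nat.beq (fx L.1) L'.1 && baseCycle fx (L' :: Ls)
  | _ => true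

/-- the steps of the sifting of the candidate `p` for the image of the current base point -/
def conjSteps (fuel : ℕ) (fx' : ℕ → ℕ) : List Step → ℕ → List Level → Option (List Step)
  | st, p, L :: Ls =>
    strict (applyAll fuel st p) fun t =>
      cond (traceTo L.2.1 L.2.2 L.1 fuel t)
        (conjSteps fuel fx' (st ++ [(L.1, L.2.1, L.2.2, t)]) (fx' p) Ls) none
  | st, _, [] => some st

/-- the test of the equation `x W = W x'` for the composition `W` of the steps, at the test points -/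
def conjTest (n fuel : ℕ) (fx fx' : ℕ → ℕ) (tests : List ℕ) (st : List Step) : Bool :=
  tests.all fun i => cond (Nat.blt i n) (Nat.beq (fx (applyAll fuel st i)) (applyAll fuel st (fx' i))) true

/-- the steps of a candidate `p` for the image of the first base point that passes the tests -/
def cand (n fuel : ℕ) (fx fx' : ℕ → ℕ) (tests : List ℕ) (Ls : List Level) (p : ℕ) : Option (List Step) :=
  match conjSteps fuel fx' [] p Ls with
  | none => none
  | some st => cond (conjTest n fuel fx fx' tests st) (some st) none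

variable {n : ℕ}

/-- an element fixing all base points of a tight chain of trees is trivial -/
theorem eq_one_of_fixes (H : Subgroup (Equiv.Perm (Fin n))) (fuel : ℕ) :
    ∀ (Ls : List Level) (fixed : List ℕ), treeOK n fixed Ls = true →
      (∀ L ∈ Ls, ∀ c ∈ L.2.1, Rep H c) →
      Nat.card (fixer H fixed) ≤ (treeCounts n fuel Ls).prod →
      ∀ g ∈ fixer H fixed, (∀ L ∈ Ls, ∀ hb : L.1 < n, g ⟨L.1, hb⟩ = ⟨L.1, hb⟩) → g = 1 := by
  intro Ls
  induction Ls with
  | nil =>
    intro fixed _ _ ht g hg _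
    rw [treeCounts, List.map_nil, List.prod_nil] at ht
    have hbot : fixer H fixed = ⊥ := (Subgroup.card_le_one_iff_eq_bot _).1 ht
    rw [hbot, Subgroup.mem_bot] at hg
    exact hg
  | cons L Ls ih =>
    intro fixed hok hc ht g hg hfix
    obtain ⟨hb, -, -, hcard⟩ := level_step H fuel fixed L Ls hok hc ht
    obtain ⟨-, -, hrest⟩ := treeOK_cons hok
    apply ih (L.1 :: fixed) hrest (fun L' hL' => hc L' (List.mem_cons_of_mem _ hL')) hcard g
    · rw [mem_fixer_cons hb]
      exact ⟨hg, hfix L List.mem_cons_self hb⟩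
    · intro L' hL' hb'
      exact hfix L' (List.mem_cons_of_mem _ hL') hb'

theorem treeOK_lt : ∀ (Ls : List Level) (fixed : List ℕ), treeOK n fixed Ls = true → ∀ L ∈ Ls, L.1 < n
  | [], _, _, _, hL => absurd hL List.not_mem_nil
  | L :: Ls, fixed, h, L', hL' => by
    obtain ⟨hb, -, hrest⟩ := treeOK_cons h
    rcases List.mem_cons.1 hL' with rfl | h'
    · exact hb
    · exact treeOK_lt Ls _ hrest L' h'

/-- an element commuting with `x` and fixing the first base point fixes all the base points along the cycle -/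
theorem fixes_of_cycle (x e : Equiv.Perm (Fin n)) {fx : ℕ → ℕ} (hx : Acts x fx) (hex : e * x = x * e) :
    ∀ (L : Level) (Ls : List Level), baseCycle fx (L :: Ls) = true → (∀ L' ∈ L :: Ls, L'.1 < n) →
      (∀ hb : L.1 < n, e ⟨L.1, hb⟩ = ⟨L.1, hb⟩) → ∀ L' ∈ L :: Ls, ∀ hb : L'.1 < n, e ⟨L'.1, hb⟩ = ⟨L'.1, hb⟩ := by
  intro L Ls
  induction Ls generalizing L with
  | nil =>
    intro _ _ h0 L' hL' hb
    rw [List.mem_singleton] at hL'
    subst hL'
    exact h0 hb
  | cons L1 Ls ih =>
    intro hcyc hlt h0 L' hL' hb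
    rcases List.mem_cons.1 hL' with rfl | h'
    · exact h0 hb
    · rw [baseCycle, Bool.and_eq_true] at hcyc
      have hb0 : L.1 < n := hlt L List.mem_cons_self
      have hnext : fx L.1 = L1.1 := Nat.eq_of_beq_eq_true hcyc.1
      rw [← hx L.1 hb0] at hnext
      apply ih L1 hcyc.2 (fun L'' hL'' => hlt L'' (List.mem_cons_of_mem _ hL'')) _ L' h' hb
      intro hb1
      have e1 : (⟨L1.1, hb1⟩ : Fin n) = x ⟨L.1, hb0⟩ := Fin.ext hnext.symm
      rw [e1, ← Equiv.Perm.mul_apply, hex, Equiv.Perm.mul_apply, h0 hb0]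

theorem conjSteps_of_mem (H : Subgroup (Equiv.Perm (Fin n))) (fuel : ℕ)
    (x x' c : Equiv.Perm (Fin n)) {fx fx' : ℕ → ℕ} (hx : Acts x fx) (hx' : Acts x' fx') (hcx : c * x = x' * c) :
    ∀ (Ls : List Level) (fixed : List ℕ) (st : List Step) (p : ℕ) (W : Equiv.Perm (Fin n)),
      treeOK n fixed Ls = true → (∀ L ∈ Ls, ∀ c ∈ L.2.1, Rep H c) →
      Nat.card (fixer H fixed) ≤ (treeCounts n fuel Ls).prod →
      baseCycle fx Ls = true →
      (∀ (q : ℕ) (hq : q < n), ((W ⟨q, hq⟩ : Fin n) : ℕ) = applyAll fuel st q) →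
      W * c ∈ fixer H fixed →
      (∀ L Ls', Ls = L :: Ls' → ∀ hb : L.1 < n, ((c ⟨L.1, hb⟩ : Fin n) : ℕ) = p) →
      ∃ st', conjSteps fuel fx' st p Ls = some st' ∧ Acts c⁻¹ (applyAll fuel st') := by
  intro Ls
  induction Ls with
  | nil =>
    intro fixed st p W _ _ ht _ hW hWc _
    rw [treeCounts, List.map_nil, List.prod_nil] at ht
    have hbot : fixer H fixed = ⊥ := (Subgroup.card_le_one_iff_eq_bot _).1 ht
    rw [hbot, Subgroup.mem_bot] at hWc
    refine ⟨st, rfl, ?_⟩
    have hW' : W = c⁻¹ := eq_inv_of_mul_eq_one_left hWc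
    rw [← hW']
    exact hW
  | cons L Ls ih =>
    intro fixed st p W hok hc ht hcyc hW hWc hp
    obtain ⟨hb, hg, horb, hcard⟩ := level_step H fuel fixed L Ls hok hc ht
    obtain ⟨-, -, hrest⟩ := treeOK_cons hok
    have hpb : ((c ⟨L.1, hb⟩ : Fin n) : ℕ) = p := hp L Ls rfl hb
    rw [conjSteps, strict_eq]
    have ht1 : applyAll fuel st p = (((W * c) ⟨L.1, hb⟩ : Fin n) : ℕ) := by
      rw [Equiv.Perm.mul_apply, hW _ (c ⟨L.1, hb⟩).2, hpb]
    have htm := horb (W * c) hWc
    rw [← ht1, mem_orbitL] at htm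
    obtain ⟨htn, htr⟩ := htm
    rw [htr, cond_true]
    obtain ⟨w, hwK, hw1, hw2⟩ := trace_sound (fixer H fixed) L.2.1 hg L.2.2 L.1 fuel _ htn htr
    apply ih (L.1 :: fixed) _ _ (w * W) hrest (fun L' hL' => hc L' (List.mem_cons_of_mem _ hL')) hcard
    · cases Ls with
      | nil => rfl
      | cons L' Ls' =>
        rw [baseCycle, Bool.and_eq_true] at hcyc
        exact hcyc.2
    · intro q hq
      rw [applyAll_append, Equiv.Perm.mul_apply, hw1 _ (W ⟨q, hq⟩).2, hW q hq]
    · rw [mem_fixer_cons hb, mul_assoc]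
      refine ⟨(fixer H fixed).mul_mem hwK hWc, ?_⟩
      apply Fin.ext
      rw [Equiv.Perm.mul_apply, hw1 _ ((W * c) ⟨L.1, hb⟩).2, ← ht1]
      exact hw2
    · intro L' Ls' hLs hb'
      subst hLs
      rw [baseCycle, Bool.and_eq_true] at hcyc
      have hnext : fx L.1 = L'.1 := Nat.eq_of_beq_eq_true hcyc.1
      rw [← hx L.1 hb] at hnext
      have e : (⟨L'.1, hb'⟩ : Fin n) = x ⟨L.1, hb⟩ := Fin.ext hnext.symm
      rw [e, ← hpb, ← Equiv.Perm.mul_apply, hcx, Equiv.Perm.mul_apply, hx' _ (c ⟨L.1, hb⟩).2]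

/-- **Every `c` in `H` with `c x = x' c` is the inverse of the composition of the steps of the sifting of the image of the
first base point, and these steps pass the tests.** -/
theorem exists_cand (H : Subgroup (Equiv.Perm (Fin n))) (fuel : ℕ)
    (x x' : Equiv.Perm (Fin n)) {fx fx' : ℕ → ℕ} (hx : Acts x fx) (hx' : Acts x' fx') (tests : List ℕ)
    (L : Level) (Ls : List Level)
    (hok : treeOK n [] (L :: Ls) = true) (hc : ∀ L' ∈ L :: Ls, ∀ c ∈ L'.2.1, Rep H c)
    (ht : Nat.card H ≤ (treeCounts n fuel (L :: Ls)).prod) (hcyc : baseCycle fx (L :: Ls) = true)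
    (c : Equiv.Perm (Fin n)) (hcH : c ∈ H) (hcx : c * x = x' * c) :
    ∃ hb : L.1 < n, ∃ st, cand n fuel fx fx' tests (L :: Ls) ((c ⟨L.1, hb⟩ : Fin n) : ℕ) = some st ∧
        Acts c⁻¹ (applyAll fuel st) := by
  have ht' : Nat.card (fixer H []) ≤ (treeCounts n fuel (L :: Ls)).prod := by rw [fixer_nil]; exact ht
  obtain ⟨hb, -, -, -⟩ := level_step H fuel [] L Ls hok hc ht'
  refine ⟨hb, ?_⟩
  obtain ⟨st, hst, hact⟩ := conjSteps_of_mem H fuel x x' c hx hx' hcx (L :: Ls) [] []
    ((c ⟨L.1, hb⟩ : Fin n) : ℕ) 1 hok hc ht' hcyc (fun q hq => rfl) (by rw [one_mul, fixer_nil]; exact hcH)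
    (by
      intro L' Ls' hLs hb'
      injection hLs with h1 h2
      subst h1
      rfl)
  refine ⟨st, ?_, hact⟩
  rw [cand, hst]
  have hxW : x * c⁻¹ = c⁻¹ * x' := by
    have := congrArg (fun z => c⁻¹ * z * c⁻¹) hcx
    simp only [mul_assoc, mul_inv_cancel, mul_one] at this
    rw [← mul_assoc, ← mul_assoc, inv_mul_cancel, one_mul] at this
    exact this
  have htests : conjTest n fuel fx fx' tests st = true := by
    rw [conjTest, List.all_eq_true]
    intro i _
    cases hi : Nat.blt i n with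
    | false => rfl
    | true =>
      rw [cond_true]
      have hi' : i < n := by simpa [Nat.blt] using hi
      have e1 : (((x * c⁻¹) ⟨i, hi'⟩ : Fin n) : ℕ) = fx (applyAll fuel st i) := (hx.mul hact) i hi'
      have e2 : (((c⁻¹ * x') ⟨i, hi'⟩ : Fin n) : ℕ) = applyAll fuel st (fx' i) := (hact.mul hx') i hi'
      rw [← hxW] at e2
      rw [← e1, ← e2]
      exact Nat.beq_refl _
  show cond (conjTest n fuel fx fx' tests st) (some st) none = some st
  rw [htests, cond_true]

/-- an element `c` of `H` with `c x = x' c` is determined by the image of the first base point -/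
theorem conj_point_inj (H : Subgroup (Equiv.Perm (Fin n))) (fuel : ℕ)
    (x x' : Equiv.Perm (Fin n)) {fx : ℕ → ℕ} (hx : Acts x fx) (L : Level) (Ls : List Level)
    (hok : treeOK n [] (L :: Ls) = true) (hc : ∀ L' ∈ L :: Ls, ∀ c ∈ L'.2.1, Rep H c)
    (ht : Nat.card H ≤ (treeCounts n fuel (L :: Ls)).prod) (hcyc : baseCycle fx (L :: Ls) = true)
    (c d : Equiv.Perm (Fin n)) (hcH : c ∈ H) (hdH : d ∈ H) (hcx : c * x = x' * c) (hdx : d * x = x' * d)
    (hb : L.1 < n) (hcd : c ⟨L.1, hb⟩ = d ⟨L.1, hb⟩) : c = d := by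
  have ht' : Nat.card (fixer H []) ≤ (treeCounts n fuel (L :: Ls)).prod := by rw [fixer_nil]; exact ht
  have hlt := treeOK_lt (L :: Ls) [] hok
  have hex : (d⁻¹ * c) * x = x * (d⁻¹ * c) := by
    have h1 : d⁻¹ * x' = x * d⁻¹ := by
      have := congrArg (fun z => d⁻¹ * z * d⁻¹) hdx
      simp only [mul_assoc, mul_inv_cancel, mul_one] at this
      rw [← mul_assoc, ← mul_assoc, inv_mul_cancel, one_mul] at this
      exact this.symm
    rw [mul_assoc, hcx, ← mul_assoc, h1, mul_assoc]
  have hfix0 : ∀ hb' : L.1 < n, (d⁻¹ * c) ⟨L.1, hb'⟩ = ⟨L.1, hb'⟩ := by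
    intro _
    rw [Equiv.Perm.mul_apply, hcd]
    exact Equiv.symm_apply_apply d _
  have hall := fixes_of_cycle x (d⁻¹ * c) hx hex L Ls hcyc hlt hfix0
  have hone := eq_one_of_fixes H fuel (L :: Ls) [] hok hc ht' (d⁻¹ * c)
    (by rw [fixer_nil]; exact H.mul_mem (H.inv_mem hdH) hcH) hall
  exact inv_mul_eq_one.1 hone |>.symm

/-! ### the centraliser of `x`, and conjugacy -/

/-- the point `p` is one of `b, f b, …, f^(k-1) b` -/
def cycMem (f : ℕ → ℕ) : ℕ → ℕ → ℕ → Bool
  | 0, _, _ => false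
  | k + 1, b, p => Nat.beq b p || cycMem f k (f b) p

theorem cycMem_spec (f : ℕ → ℕ) : ∀ (k b p : ℕ), cycMem f k b p = true → ∃ i < k, f^[i] b = p
  | 0, _, _, h => by simp [cycMem] at h
  | k + 1, b, p, h => by
    rw [cycMem, Bool.or_eq_true] at h
    rcases h with h | h
    · exact ⟨0, Nat.succ_pos k, Nat.eq_of_beq_eq_true h⟩
    · obtain ⟨i, hi, e⟩ := cycMem_spec f k (f b) p h
      exact ⟨i + 1, Nat.succ_lt_succ hi, by rw [Function.iterate_succ_apply]; exact e⟩

/-- **The centraliser of `x` in `H` consists of powers of `x`**, if every candidate for the image of the first base point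
lies in the cycle of `x` through it. -/
theorem mem_powers_of_cand (H : Subgroup (Equiv.Perm (Fin n))) (fuel : ℕ)
    (x : Equiv.Perm (Fin n)) (hxH : x ∈ H) {fx : ℕ → ℕ} (hx : Acts x fx) (tests : List ℕ)
    (L : Level) (Ls : List Level)
    (hok : treeOK n [] (L :: Ls) = true) (hc : ∀ L' ∈ L :: Ls, ∀ c ∈ L'.2.1, Rep H c)
    (ht : Nat.card H ≤ (treeCounts n fuel (L :: Ls)).prod) (hcyc : baseCycle fx (L :: Ls) = true) (k : ℕ)
    (hchk : ∀ p < n, (match cand n fuel fx fx tests (L :: Ls) p with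
      | none => true
      | some _ => cycMem fx k L.1 p) = true)
    (c : Equiv.Perm (Fin n)) (hcH : c ∈ H) (hcx : c * x = x * c) : ∃ i < k, c = x ^ i := by
  obtain ⟨hb, st, hst, -⟩ := exists_cand H fuel x x hx hx tests L Ls hok hc ht hcyc c hcH hcx
  have h1 := hchk _ (c ⟨L.1, hb⟩).2
  rw [hst] at h1
  obtain ⟨i, hi, e⟩ := cycMem_spec fx k L.1 _ h1
  refine ⟨i, hi, ?_⟩
  apply conj_point_inj H fuel x x hx L Ls hok hc ht hcyc c (x ^ i) hcH (H.pow_mem hxH i) hcx
    ((Commute.pow_self x i).eq) hb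
  apply Fin.ext
  rw [← e, (hx.pow i) L.1 hb]

/-- **No element of `H` conjugates `x` to `x'`**, if no candidate for the image of the first base point passes. -/
theorem not_conj_of_cand (H : Subgroup (Equiv.Perm (Fin n))) (fuel : ℕ)
    (x x' : Equiv.Perm (Fin n)) {fx fx' : ℕ → ℕ} (hx : Acts x fx) (hx' : Acts x' fx') (tests : List ℕ)
    (L : Level) (Ls : List Level)
    (hok : treeOK n [] (L :: Ls) = true) (hc : ∀ L' ∈ L :: Ls, ∀ c ∈ L'.2.1, Rep H c)
    (ht : Nat.card H ≤ (treeCounts n fuel (L :: Ls)).prod) (hcyc : baseCycle fx (L :: Ls) = true)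
    (hchk : ∀ p < n, (cand n fuel fx fx' tests (L :: Ls) p).isNone = true)
    (c : Equiv.Perm (Fin n)) (hcH : c ∈ H) : c * x ≠ x' * c := by
  intro hcx
  obtain ⟨hb, st, hst, -⟩ := exists_cand H fuel x x' hx hx' tests L Ls hok hc ht hcyc c hcH hcx
  have h1 := hchk _ (c ⟨L.1, hb⟩).2
  rw [hst] at h1
  exact absurd h1 (by simp)

end Cfsg.Agent.PF
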