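import Cfsg.Agent.Lib.Lead.PF.Out
import Cfsg.Agent.Lib.Lead.PL.CoxBridge
import Cfsg.Agent.Lib.Helper6.BTree

/-!
# Tables of permutations kept in trees, counting in slices, and the generators of a coset table as maps of points
-/

set_option autoImplicit false

namespace Cfsg.Agent.PF

open Cfsg.Agent.PL (Acts)
open Cfsg.Agent.Lib.Helper6 Cfsg.Agent.Lib.Helper6.TC Cfsg.Agent.Lib.Helper6.NatArr

/-- entry `i` of an array of entries of width `w` kept in a tree with 4096 entries at each leaf -/
noncomputable def ent (w : ℕ) (t : BT) (i : ℕ) : ℕ :=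
  force i fun i' => aget w (t.get (Nat.shiftRight i' 12)) (Nat.land i' 4095)

/-! ### counting in slices -/

/-- the number of the points `lo ≤ q < lo + len` with `f q`, added to `acc` -/
def countAux (lo : ℕ) (f : ℕ → Bool) (len : ℕ) : ℕ → ℕ :=
  Nat.rec (motive := fun _ => ℕ → ℕ) (fun acc => acc)
    (fun i ih acc => force (cond (f (Nat.add lo i)) (Nat.succ acc) acc) ih) len

/-- the number of the points `lo ≤ q < lo + len` with `f q` -/
def countR (lo len : ℕ) (f : ℕ → Bool) : ℕ := countAux lo f len 0

theorem countAux_succ (lo : ℕ) (f : ℕ → Bool) (len acc : ℕ) :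
    countAux lo f (len + 1) acc = countAux lo f len (cond (f (lo + len)) (acc + 1) acc) := by
  show force (cond (f (Nat.add lo len)) (Nat.succ acc) acc) (countAux lo f len) = _
  rw [force_eq]
  rfl

theorem countAux_eq (lo : ℕ) (f : ℕ → Bool) : ∀ (len acc : ℕ),
    countAux lo f len acc = acc + ((List.range len).filter fun i => f (lo + i)).length := by
  intro len
  induction len with
  | zero => intro acc; rfl
  | succ k ih =>
    intro acc
    rw [countAux_succ, ih, List.range_succ, List.filter_append, List.length_append]
    cases h : f (lo + k) with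
    | true =>
      rw [cond_true]
      have : ([k].filter fun i => f (lo + i)) = [k] := by
        rw [List.filter_cons, if_pos h]; rfl
      rw [this, List.length_singleton]
      omega
    | false =>
      rw [cond_false]
      have : ([k].filter fun i => f (lo + i)) = [] := by
        rw [List.filter_cons, if_neg (by rw [h]; simp)]; rfl
      rw [this, List.length_nil]
      omega

theorem countR_eq (lo len : ℕ) (f : ℕ → Bool) :
    countR lo len f = ((List.range len).filter fun i => f (lo + i)).length := by
  rw [countR, countAux_eq, Nat.zero_add]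

theorem countR_add (lo a b : ℕ) (f : ℕ → Bool) : countR lo (a + b) f = countR lo a f + countR (lo + a) b f := by
  rw [countR_eq, countR_eq, countR_eq, List.range_add, List.filter_append, List.length_append, List.filter_map,
    List.length_map]
  congr 2
  apply List.filter_congr
  intro i _
  show f (lo + (a + i)) = f (lo + a + i)
  rw [Nat.add_assoc]

/-- the counts of adjacent slices add up -/
theorem countR_append {lo a b : ℕ} {f : ℕ → Bool} {ca cb : ℕ} (h1 : countR lo a f = ca)
    (h2 : countR (lo + a) b f = cb) : countR lo (a + b) f = ca + cb := by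
  rw [countR_add, h1, h2]

/-- the number of points of a tree -/
theorem length_orbitL (n : ℕ) (gens : List (ℕ → ℕ)) (lab : ℕ → ℕ) (b fuel : ℕ) :
    (orbitL n gens lab b fuel).length = countR 0 n (traceTo gens lab b fuel) := by
  rw [countR_eq, orbitL]
  congr 2
  funext i
  rw [Nat.zero_add]

/-! ### equations of maps in slices -/

/-- two maps agree at the points below `n`, by slices -/
theorem eq_of_chunks {n : ℕ} {f g : ℕ → ℕ} (chunks : List (ℕ × ℕ)) (hcov : coverOK n 0 chunks = true)
    (h : ∀ c ∈ chunks, allR c.1 c.2 (fun q => Nat.beq (f q) (g q)) = true) : ∀ q < n, f q = g q :=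
  fun q hq => Nat.eq_of_beq_eq_true (forall_lt_of_chunks chunks hcov h q hq)

/-! ### words of maps, by the recursor of lists (faster in the kernel) -/

/-- the composition of a list of maps, the last one first -/
def wordR (l : List (ℕ → ℕ)) (q : ℕ) : ℕ := List.rec (motive := fun _ => ℕ) q (fun f _ ih => f ih) l

theorem wordR_eq (l : List (ℕ → ℕ)) (q : ℕ) : wordR l q = wordF l q := by
  induction l with
  | nil => rfl
  | cons f l ih =>
    show f (wordR l q) = f (wordF l q)
    rw [ih]

theorem rep_wordR {n : ℕ} {H : Subgroup (Equiv.Perm (Fin n))} {l : List (ℕ → ℕ)} (h : Reps H l) : Rep H (wordR l) :=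
  (rep_wordF h).congr fun q _ => wordR_eq l q

/-! ### the generators of a coset table as maps of points -/

section table

open Cfsg.Spor

variable {α : Type} [DecidableEq α] {edges : List (α × ℕ × α)} {extra : List (FreeGroup α)}
  {S : Set (FreeGroup α)} (D : CoxData edges extra S)

/-- the generator `x` of a coset table acts by the column `x` of the table -/
theorem rep_gen {x : ℕ} (hx : x < D.T.g) : Rep (Cfsg.Agent.PL.Cox.P D) fun a => D.T.nxt a x := by
  refine ⟨(Cfsg.Agent.PL.Cox.genP D x).1, (Cfsg.Agent.PL.Cox.genP D x).2, ?_⟩
  intro q hq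
  have h1 : (Cfsg.Agent.PL.Cox.genP D x).1 = D.T.perm D.chk_tab x :=
    Simp.ρ_of_gen D (by rw [← D.hTg]; exact hx)
  rw [h1]
  exact D.T.perm_apply D.chk_tab hx ⟨q, hq⟩

end table

end Cfsg.Agent.PF
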