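import Cfsg.Agent.Lib.Lead.PF.Tab

/-!
# Statements about all the members of an explicit list

Terms that combine many slices of a check: `all_cons h₀ (all_cons h₁ (… all_nil))`.
-/

set_option autoImplicit false

namespace Cfsg.Agent.PF

theorem all_nil {α : Type*} {p : α → Prop} : ∀ x ∈ ([] : List α), p x := fun _ h => absurd h List.not_mem_nil

theorem all_cons {α : Type*} {p : α → Prop} {a : α} {l : List α} (h : p a) (t : ∀ x ∈ l, p x) :
    ∀ x ∈ a :: l, p x := List.forall_mem_cons.2 ⟨h, t⟩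

theorem all_append {α : Type*} {p : α → Prop} {l₁ l₂ : List α} (h₁ : ∀ x ∈ l₁, p x) (h₂ : ∀ x ∈ l₂, p x) :
    ∀ x ∈ l₁ ++ l₂, p x := List.forall_mem_append.2 ⟨h₁, h₂⟩

end Cfsg.Agent.PF
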