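import Cfsg.Agent.Lib.Lead.PL.Acts
import Cfsg.Agent.Lib.Lead.PG.Tight

/-!
# Chains of stabilisers certified by spanning trees of the orbits, for permutations given by maps of points

The same as `PL.Tree`, but a permutation is given by any map `ℕ → ℕ` that agrees with it on the points (for instance by
lookups in a table kept in a tree), so that the number of points is not bounded.  A level of a chain is a base point `b`,
a list of maps of generators of (a subgroup of) the stabiliser of the earlier base points, and a map of labels: the label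
of a point `t` is the index plus one of a generator moving `t` towards `b` in a spanning tree of the orbit of `b`, or
zero.
-/

set_option autoImplicit false

namespace Cfsg.Agent.PF

open Cfsg.Agent.PG (fixer mem_fixer fixer_nil mem_fixer_cons fixer_mono card_ge_step tight_step strict strict_eq)

open Cfsg.Agent.PL (Acts)

/-- the `i`-th element of a list -/
def nth : List (ℕ → ℕ) → ℕ → Option (ℕ → ℕ)
  | [], _ => none
  | a :: _, 0 => some a
  | _ :: l, i + 1 => nth l i

theorem nth_mem : ∀ {l : List (ℕ → ℕ)} {i : ℕ} {a : ℕ → ℕ}, nth l i = some a → a ∈ l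
  | [], _, _, h => by simp [nth] at h
  | b :: _, 0, a, h => by
    simp only [nth, Option.some.injEq] at h
    rw [h]; exact List.mem_cons_self
  | _ :: l, i + 1, a, h => by
    rw [nth] at h
    exact List.mem_cons_of_mem _ (nth_mem h)

/-- the map `f` is the action of an element of `H` -/
def Rep {n : ℕ} (H : Subgroup (Equiv.Perm (Fin n))) (f : ℕ → ℕ) : Prop := ∃ g ∈ H, Acts g f

/-- follow the tree from `t` towards the root `b`, at most `fuel` steps -/
def traceTo (gens : List (ℕ → ℕ)) (lab : ℕ → ℕ) (b : ℕ) : ℕ → ℕ → Bool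
  | 0, t => Nat.beq t b
  | fuel + 1, t =>
    cond (Nat.beq t b) true
      (cond (Nat.beq (lab t) 0) false
        (match nth gens (Nat.pred (lab t)) with
         | none => false
         | some s => traceTo gens lab b fuel (s t)))

/-- the image of `q` under the element that the tree attaches to `t` -/
def applyPath (gens : List (ℕ → ℕ)) (lab : ℕ → ℕ) (b : ℕ) : ℕ → ℕ → ℕ → ℕ
  | 0, _, q => q
  | fuel + 1, t, q =>
    cond (Nat.beq t b) q
      (cond (Nat.beq (lab t) 0) q
        (match nth gens (Nat.pred (lab t)) with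
         | none => q
         | some s => applyPath gens lab b fuel (s t) (s q)))

variable {n : ℕ}

theorem trace_sound (K : Subgroup (Equiv.Perm (Fin n))) (gens : List (ℕ → ℕ))
    (hg : ∀ s ∈ gens, Rep K s) (lab : ℕ → ℕ) (b : ℕ) :
    ∀ (fuel t : ℕ), t < n → traceTo gens lab b fuel t = true →
      ∃ g ∈ K, (∀ (q : ℕ) (hq : q < n), ((g ⟨q, hq⟩ : Fin n) : ℕ) = applyPath gens lab b fuel t q) ∧
        applyPath gens lab b fuel t t = b := by
  intro fuel
  induction fuel with
  | zero =>
    intro t _ h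
    rw [traceTo] at h
    have htb : t = b := Nat.eq_of_beq_eq_true h
    exact ⟨1, K.one_mem, fun q hq => rfl, htb⟩
  | succ fuel ih =>
    intro t ht h
    rw [traceTo] at h
    rw [show applyPath gens lab b (fuel + 1) t t = cond (Nat.beq t b) t
      (cond (Nat.beq (lab t) 0) t
        (match nth gens (Nat.pred (lab t)) with
         | none => t
         | some s => applyPath gens lab b fuel (s t) (s t))) from rfl]
    cases htb : Nat.beq t b with
    | true =>
      refine ⟨1, K.one_mem, fun q hq => ?_, ?_⟩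
      · rw [applyPath, htb]; rfl
      · rw [cond_true]; exact Nat.eq_of_beq_eq_true htb
    | false =>
      rw [htb, cond_false] at h
      rw [cond_false]
      cases hl : Nat.beq (lab t) 0 with
      | true => rw [hl, cond_true] at h; exact absurd h (by simp)
      | false =>
        rw [hl, cond_false] at h
        rw [cond_false]
        cases hs : nth gens (Nat.pred (lab t)) with
        | none => rw [hs] at h; exact absurd h (by simp)
        | some s =>
          rw [hs] at h
          obtain ⟨gs, hgsK, hgs⟩ := hg s (nth_mem hs)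
          have hst : s t = ((gs ⟨t, ht⟩ : Fin n) : ℕ) := (hgs t ht).symm
          have ht' : s t < n := by rw [hst]; exact (gs ⟨t, ht⟩).2
          obtain ⟨g', hg'K, hg'1, hg'2⟩ := ih (s t) ht' h
          refine ⟨g' * gs, K.mul_mem hg'K hgsK, fun q hq => ?_, hg'2⟩
          rw [applyPath, htb, cond_false, hl, cond_false, hs]
          show ((g' (gs ⟨q, hq⟩) : Fin n) : ℕ) = applyPath gens lab b fuel (s t) (s q)
          have hsq : s q = ((gs ⟨q, hq⟩ : Fin n) : ℕ) := (hgs q hq).symm
          rw [hsq]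
          exact hg'1 _ (gs ⟨q, hq⟩).2

/-- the points that the tree joins to the root -/
def orbitL (n : ℕ) (gens : List (ℕ → ℕ)) (lab : ℕ → ℕ) (b fuel : ℕ) : List ℕ :=
  (List.range n).filter fun t => traceTo gens lab b fuel t

theorem mem_orbitL {gens : List (ℕ → ℕ)} {lab : ℕ → ℕ} {b fuel t : ℕ} :
    t ∈ orbitL n gens lab b fuel ↔ t < n ∧ traceTo gens lab b fuel t = true := by
  rw [orbitL, List.mem_filter, List.mem_range]

theorem orbitL_nodup (gens : List (ℕ → ℕ)) (lab : ℕ → ℕ) (b fuel : ℕ) : (orbitL n gens lab b fuel).Nodup :=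
  List.Nodup.filter _ List.nodup_range

/-- a representative moving the root to the point `t` -/
noncomputable def rep (K : Subgroup (Equiv.Perm (Fin n))) (gens : List (ℕ → ℕ))
    (hg : ∀ s ∈ gens, Rep K s) (lab : ℕ → ℕ) (b fuel t : ℕ) : Equiv.Perm (Fin n) :=
  if h : t < n ∧ traceTo gens lab b fuel t = true then
    (Classical.choose (trace_sound K gens hg lab b fuel t h.1 h.2))⁻¹
  else 1

theorem rep_spec (K : Subgroup (Equiv.Perm (Fin n))) (gens : List (ℕ → ℕ))
    (hg : ∀ s ∈ gens, Rep K s) (lab : ℕ → ℕ) (b fuel t : ℕ) (ht : t < n)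
    (h : traceTo gens lab b fuel t = true) (hb : b < n) :
    rep K gens hg lab b fuel t ∈ K ∧ rep K gens hg lab b fuel t ⟨b, hb⟩ = ⟨t, ht⟩ := by
  have hh : t < n ∧ traceTo gens lab b fuel t = true := ⟨ht, h⟩
  rw [rep, dif_pos hh]
  obtain ⟨h1, h2, h3⟩ := Classical.choose_spec (trace_sound K gens hg lab b fuel t hh.1 hh.2)
  refine ⟨K.inv_mem h1, ?_⟩
  rw [Equiv.Perm.inv_eq_iff_eq]
  apply Fin.ext
  rw [h2 t ht, h3]

/-- the root of a non-empty tree is a point -/
theorem root_lt (K : Subgroup (Equiv.Perm (Fin n))) (gens : List (ℕ → ℕ))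
    (hg : ∀ s ∈ gens, Rep K s) (lab : ℕ → ℕ) (b fuel t : ℕ) (ht : t < n)
    (h : traceTo gens lab b fuel t = true) : b < n := by
  obtain ⟨g, _, h2, h3⟩ := trace_sound K gens hg lab b fuel t ht h
  rw [← h3, ← h2 t ht]
  exact (g ⟨t, ht⟩).2

/-- the representatives of a level -/
noncomputable def reps (K : Subgroup (Equiv.Perm (Fin n))) (gens : List (ℕ → ℕ))
    (hg : ∀ s ∈ gens, Rep K s) (lab : ℕ → ℕ) (b fuel : ℕ) : List (Equiv.Perm (Fin n)) :=
  (orbitL n gens lab b fuel).map (rep K gens hg lab b fuel)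

theorem reps_mem (K : Subgroup (Equiv.Perm (Fin n))) (gens : List (ℕ → ℕ))
    (hg : ∀ s ∈ gens, Rep K s) (lab : ℕ → ℕ) (b fuel : ℕ) (hb : b < n) :
    ∀ u ∈ reps K gens hg lab b fuel, u ∈ K := by
  intro u hu
  rw [reps, List.mem_map] at hu
  obtain ⟨t, ht, rfl⟩ := hu
  rw [mem_orbitL] at ht
  exact (rep_spec K gens hg lab b fuel t ht.1 ht.2 hb).1

theorem reps_image (K : Subgroup (Equiv.Perm (Fin n))) (gens : List (ℕ → ℕ))
    (hg : ∀ s ∈ gens, Rep K s) (lab : ℕ → ℕ) (b fuel : ℕ) (hb : b < n) :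
    ((reps K gens hg lab b fuel).map fun u => ((u ⟨b, hb⟩ : Fin n) : ℕ)) = orbitL n gens lab b fuel := by
  rw [reps, List.map_map]
  conv_rhs => rw [← List.map_id (orbitL n gens lab b fuel)]
  apply List.map_congr_left
  intro t ht
  rw [mem_orbitL] at ht
  show ((rep K gens hg lab b fuel t ⟨b, hb⟩ : Fin n) : ℕ) = t
  rw [(rep_spec K gens hg lab b fuel t ht.1 ht.2 hb).2]

theorem reps_nodup (K : Subgroup (Equiv.Perm (Fin n))) (gens : List (ℕ → ℕ))
    (hg : ∀ s ∈ gens, Rep K s) (lab : ℕ → ℕ) (b fuel : ℕ) (hb : b < n) :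
    ((reps K gens hg lab b fuel).map fun u => u ⟨b, hb⟩).Nodup := by
  refine List.Nodup.of_map (fun y : Fin n => (y : ℕ)) ?_
  rw [List.map_map]
  have := reps_image K gens hg lab b fuel hb
  rw [show ((fun y : Fin n => (y : ℕ)) ∘ fun u : Equiv.Perm (Fin n) => u ⟨b, hb⟩) =
    fun u : Equiv.Perm (Fin n) => ((u ⟨b, hb⟩ : Fin n) : ℕ) from rfl, this]
  exact orbitL_nodup gens lab b fuel

theorem reps_length (K : Subgroup (Equiv.Perm (Fin n))) (gens : List (ℕ → ℕ))
    (hg : ∀ s ∈ gens, Rep K s) (lab : ℕ → ℕ) (b fuel : ℕ) :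
    (reps K gens hg lab b fuel).length = (orbitL n gens lab b fuel).length := by
  rw [reps, List.length_map]

/-- a level: base point, maps of generators, map of labels -/
abbrev Level : Type := ℕ × List (ℕ → ℕ) × (ℕ → ℕ)

/-- the test of a chain of levels: the base points are points and the generators of each level fix the earlier base
points -/
def treeOK (n : ℕ) : List ℕ → List Level → Bool
  | fixed, L :: Ls =>
    Nat.blt L.1 n && (L.2.1.all fun c => fixed.all fun x => Nat.beq (c x) x) && treeOK n (L.1 :: fixed) Ls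
  | _, [] => true

/-- the numbers of points that the trees join to the roots -/
def treeCounts (n fuel : ℕ) (Ls : List Level) : List ℕ :=
  Ls.map fun L => (orbitL n L.2.1 L.2.2 L.1 fuel).length

theorem gens_mem_fixer (H : Subgroup (Equiv.Perm (Fin n))) (fixed : List ℕ) (gens : List (ℕ → ℕ))
    (hfix : ∀ c ∈ gens, (fixed.all fun x => Nat.beq (c x) x) = true)
    (hc : ∀ c ∈ gens, Rep H c) : ∀ c ∈ gens, Rep (fixer H fixed) c := by
  intro c hcg
  obtain ⟨g, hg, hgc⟩ := hc c hcg
  refine ⟨g, ⟨hg, fun x hx hxn => Fin.ext ?_⟩, hgc⟩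
  rw [hgc x hxn]
  have := hfix _ hcg
  rw [List.all_eq_true] at this
  exact Nat.eq_of_beq_eq_true (this x hx)

theorem treeOK_cons {fixed : List ℕ} {L : Level} {Ls : List Level} (h : treeOK n fixed (L :: Ls) = true) :
    L.1 < n ∧ (∀ c ∈ L.2.1, (fixed.all fun x => Nat.beq (c x) x) = true) ∧ treeOK n (L.1 :: fixed) Ls = true := by
  rw [treeOK, Bool.and_eq_true, Bool.and_eq_true, List.all_eq_true] at h
  obtain ⟨⟨hb, hfix⟩, hrest⟩ := h
  exact ⟨by simpa [Nat.blt] using hb, hfix, hrest⟩

/-- **The product of the numbers of points of the trees bounds the order of the group from below.** -/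
theorem tree_sound (H : Subgroup (Equiv.Perm (Fin n))) (fuel : ℕ) :
    ∀ (Ls : List Level) (fixed : List ℕ), treeOK n fixed Ls = true →
      (∀ L ∈ Ls, ∀ c ∈ L.2.1, Rep H c) →
      (treeCounts n fuel Ls).prod ≤ Nat.card (fixer H fixed) := by
  intro Ls
  induction Ls with
  | nil =>
    intro fixed _ _
    rw [treeCounts, List.map_nil, List.prod_nil]
    exact Nat.card_pos
  | cons L Ls ih =>
    intro fixed h hc
    obtain ⟨hb, hfix, hrest⟩ := treeOK_cons h
    have ih' := ih (L.1 :: fixed) hrest fun L' hL' => hc L' (List.mem_cons_of_mem _ hL')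
    have hg := gens_mem_fixer H fixed L.2.1 hfix (hc L List.mem_cons_self)
    have step := card_ge_step (fixer H fixed) (fixer H (L.1 :: fixed)) ⟨L.1, hb⟩
      (reps (fixer H fixed) L.2.1 hg L.2.2 L.1 fuel) (reps_mem _ _ hg _ _ _ hb)
      (reps_nodup _ _ hg _ _ _ hb) (mem_fixer_cons hb)
    rw [reps_length] at step
    rw [treeCounts, List.map_cons, List.prod_cons]
    exact le_trans (Nat.mul_le_mul_left _ ih') step

/-- one level of a tight chain of trees: the orbit is the set of the points of the tree -/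
theorem level_step (H : Subgroup (Equiv.Perm (Fin n))) (fuel : ℕ) (fixed : List ℕ) (L : Level)
    (Ls : List Level) (hok : treeOK n fixed (L :: Ls) = true)
    (hc : ∀ L' ∈ L :: Ls, ∀ c ∈ L'.2.1, Rep H c)
    (ht : Nat.card (fixer H fixed) ≤ (treeCounts n fuel (L :: Ls)).prod) :
    ∃ hb : L.1 < n, (∀ c ∈ L.2.1, Rep (fixer H fixed) c) ∧
      (∀ g ∈ fixer H fixed, ((g ⟨L.1, hb⟩ : Fin n) : ℕ) ∈ orbitL n L.2.1 L.2.2 L.1 fuel) ∧
      Nat.card (fixer H (L.1 :: fixed)) ≤ (treeCounts n fuel Ls).prod := by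
  obtain ⟨hb, hfix, hrest⟩ := treeOK_cons hok
  have hg := gens_mem_fixer H fixed L.2.1 hfix (hc L List.mem_cons_self)
  have hlow := tree_sound H fuel Ls (L.1 :: fixed) hrest fun L' hL' => hc L' (List.mem_cons_of_mem _ hL')
  rw [treeCounts, List.map_cons, List.prod_cons] at ht
  obtain ⟨horb, hcard⟩ := tight_step (fixer H fixed) (fixer H (L.1 :: fixed)) ⟨L.1, hb⟩
    (reps (fixer H fixed) L.2.1 hg L.2.2 L.1 fuel) ((treeCounts n fuel Ls).prod)
    (reps_mem _ _ hg _ _ _ hb) (reps_nodup _ _ hg _ _ _ hb) (mem_fixer_cons hb) hlow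
    (by rw [reps_length]; exact ht)
  refine ⟨hb, hg, fun g hgK => ?_, hcard⟩
  have h1 := horb g hgK
  rw [List.mem_map] at h1
  obtain ⟨u, hu, hub⟩ := h1
  rw [← reps_image (fixer H fixed) L.2.1 hg L.2.2 L.1 fuel hb, List.mem_map]
  exact ⟨u, hu, by rw [hub]⟩

end Cfsg.Agent.PF
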